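import Mathlib

/-!
# The Galois correspondence in a Galois category

Objects realising open subgroups, morphisms realising equivariant maps, subgroup criteria.
-/

set_option autoImplicit false
set_option linter.style.haveILetI false
set_option backward.isDefEq.respectTransparency false

universe u v w

open CategoryTheory CategoryTheory.Limits CategoryTheory.PreGaloisCategory

noncomputable section

namespace Groth.Agent.GalCorr

variable {C : Type u} [Category.{v} C] [GaloisCategory C] (F : C ⥤ FintypeCat.{w}) [FiberFunctor F]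

open scoped FintypeCatDiscrete in
theorem exists_of_mulAction (n : ℕ) [MulAction (Aut F) (Fin n)]
    (h : ∀ i : Fin n, IsOpen (MulAction.stabilizer (Aut F) i : Set (Aut F))) :
    ∃ (A : C) (e : (F.obj A).obj ≃ Fin n), ∀ (σ : Aut F) (x : (F.obj A).obj),
      e (σ • x) = σ • e x := by
  let S : FintypeCat.{w} := FintypeCat.of (ULift.{w} (Fin n))
  letI : MulAction (Aut F) S.obj := Equiv.mulAction (Aut F) Equiv.ulift
  let Y : Action FintypeCat.{w} (Aut F) := Action.FintypeCat.ofMulAction (Aut F) S
  have hstab : ∀ x : S.obj, IsOpen (MulAction.stabilizer (Aut F) x : Set (Aut F)) := fun x => by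
    have e : (MulAction.stabilizer (Aut F) x : Set (Aut F)) =
        MulAction.stabilizer (Aut F) x.down := by
      ext σ
      exact ⟨fun hσ => (congrArg ULift.down hσ : _), fun hσ => ULift.ext _ _ hσ⟩
    rw [e]
    exact h _
  have hc : Action.IsContinuous Y := by
    rw [Action.isContinuous_def]
    letI : TopologicalSpace S.obj := ⊥
    haveI : DiscreteTopology S.obj := ⟨rfl⟩
    haveI : ContinuousSMul (Aut F) S.obj := continuousSMul_iff_stabilizer_isOpen.2 hstab
    exact continuous_smul (M := Aut F) (X := S.obj)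
  let Z : ContAction FintypeCat.{w} (Aut F) := ⟨Y, hc⟩
  let i : (functorToAction F).obj ((functorToContAction F).objPreimage Z) ≅ Y :=
    (ObjectProperty.ι _).mapIso ((functorToContAction F).objObjPreimageIso Z)
  let j : (F.obj ((functorToContAction F).objPreimage Z)).obj ≅ S.obj :=
    (Action.forget _ _ ⋙ FintypeCat.incl).mapIso i
  exact ⟨_, j.toEquiv.trans Equiv.ulift, fun σ x =>
    congrArg ULift.down (ConcreteCategory.congr_hom (i.hom.comm σ) x)⟩

theorem smul_eq_iff_of_mono {X Y : C} (i : Y ⟶ X) [Mono i] (σ : Aut F) (y : (F.obj Y).obj) :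
    σ • y = y ↔ σ • F.map i y = F.map i y := by
  rw [mulAction_naturality]
  refine ⟨fun h => by rw [h], fun h => ?_⟩
  exact (ConcreteCategory.mono_iff_injective_of_preservesPullback (F.map i)).1 inferInstance h

/-- Every point has a connected component with the same stabilizer. -/
theorem exists_component (X : C) (x : (F.obj X).obj) :
    ∃ (Y : C) (i : Y ⟶ X) (y : (F.obj Y).obj), IsConnected Y ∧ Mono i ∧ F.map i y = x ∧
      MulAction.stabilizer (Aut F) y = MulAction.stabilizer (Aut F) x := by
  obtain ⟨Y, i, y, hy, hc, hm⟩ := fiber_in_connected_component F X x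
  refine ⟨Y, i, y, hc, hm, hy, ?_⟩
  ext σ
  rw [← hy]
  exact smul_eq_iff_of_mono F i σ y

/-- Every open subgroup is the stabilizer of a point of a connected object. -/
theorem exists_stabilizer_eq (V : OpenSubgroup (Aut F)) :
    ∃ (X : C) (x : (F.obj X).obj), IsConnected X ∧
      MulAction.stabilizer (Aut F) x = V.toSubgroup := by
  haveI : Finite (Aut F ⧸ V.toSubgroup) := V.toSubgroup.quotient_finite_of_isOpen V.isOpen'
  let e : (Aut F ⧸ V.toSubgroup) ≃ Fin (Nat.card (Aut F ⧸ V.toSubgroup)) := Finite.equivFin _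
  letI : MulAction (Aut F) (Fin (Nat.card (Aut F ⧸ V.toSubgroup))) :=
    Equiv.mulAction (Aut F) e.symm
  have hsmul : ∀ (σ : Aut F) (q : Aut F ⧸ V.toSubgroup), σ • e q = e (σ • q) := fun σ q => by
    show e (σ • e.symm (e q)) = e (σ • q)
    rw [Equiv.symm_apply_apply]
  have hst : ∀ q : Aut F ⧸ V.toSubgroup,
      MulAction.stabilizer (Aut F) (e q) = MulAction.stabilizer (Aut F) q := fun q => by
    ext σ
    rw [MulAction.mem_stabilizer_iff, MulAction.mem_stabilizer_iff, hsmul, e.apply_eq_iff_eq]
  obtain ⟨A, j, hj⟩ := exists_of_mulAction F _ fun i => by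
    obtain ⟨q, rfl⟩ := e.surjective i
    obtain ⟨τ, rfl⟩ := QuotientGroup.mk_surjective q
    rw [hst, show (τ : Aut F ⧸ V.toSubgroup) = τ • ((1 : Aut F) : Aut F ⧸ V.toSubgroup) by simp,
      MulAction.stabilizer_smul_eq_stabilizer_map_conj, MulAction.stabilizer_quotient]
    exact (Homeomorph.mulLeft τ).trans (Homeomorph.mulRight τ⁻¹) |>.isOpenMap _ V.isOpen'
  let x := j.symm (e ((1 : Aut F) : Aut F ⧸ V.toSubgroup))
  obtain ⟨X, i, y, hc, -, -, hy⟩ := exists_component F A x
  refine ⟨X, y, hc, ?_⟩
  rw [hy, ← MulAction.stabilizer_quotient V.toSubgroup, ← hst]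
  ext σ
  rw [MulAction.mem_stabilizer_iff, MulAction.mem_stabilizer_iff, ← j.apply_eq_iff_eq, hj,
    Equiv.apply_symm_apply]

/-- Equivariant maps come from morphisms. -/
theorem exists_map_eq {X Y : C} (h : (F.obj X).obj → (F.obj Y).obj)
    (hh : ∀ (σ : Aut F) (x : (F.obj X).obj), h (σ • x) = σ • h x) :
    ∃ f : X ⟶ Y, ∀ x, F.map f x = h x := by
  let m : (functorToAction F).obj X ⟶ (functorToAction F).obj Y :=
    { hom := FintypeCat.homMk h
      comm := fun σ => FintypeCat.hom_ext _ _ fun x => hh σ x }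
  obtain ⟨f, hf⟩ := (functorToAction F).map_surjective m
  exact ⟨f, fun x => congrArg (fun m : (functorToAction F).obj X ⟶ (functorToAction F).obj Y =>
    m.hom x) hf⟩

/-- A map out of a connected object given by the image of one point. -/
theorem exists_map_of_stabilizer_le {X Y : C} [IsConnected X] (x : (F.obj X).obj)
    (y : (F.obj Y).obj) (h : MulAction.stabilizer (Aut F) x ≤ MulAction.stabilizer (Aut F) y) :
    ∃ f : X ⟶ Y, F.map f x = y := by
  choose g hg using fun x' => MulAction.exists_smul_eq (Aut F) x x'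
  have key : ∀ (σ : Aut F) (x' : (F.obj X).obj), σ • x = x' → g x' • y = σ • y := fun σ x' hσ => by
    have : σ⁻¹ * g x' ∈ MulAction.stabilizer (Aut F) x := by
      rw [MulAction.mem_stabilizer_iff, mul_smul, hg, inv_smul_eq_iff, hσ]
    have := h this
    rwa [MulAction.mem_stabilizer_iff, mul_smul, inv_smul_eq_iff] at this
  obtain ⟨f, hf⟩ := exists_map_eq F (fun x' => g x' • y) fun σ x' => by
    rw [key (σ * g x') (σ • x') (by rw [mul_smul, hg]), mul_smul]
  exact ⟨f, by rw [hf, key 1 x (one_smul _ _), one_smul]⟩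

theorem isConnected_of_pretransitive {X : C} [Nonempty (F.obj X).obj]
    (h : ∀ x y : (F.obj X).obj, ∃ σ : Aut F, σ • x = y) : IsConnected X where
  notInitial := (not_initial_iff_fiber_nonempty F X).2 inferInstance
  noTrivialComponent Y i _ hY := by
    obtain ⟨y⟩ := (not_initial_iff_fiber_nonempty F Y).1 hY
    haveI : IsIso (F.map i) := (ConcreteCategory.isIso_iff_bijective _).2
      ⟨(ConcreteCategory.mono_iff_injective_of_preservesPullback (F.map i)).1 inferInstance,
        fun x => by
          obtain ⟨σ, rfl⟩ := h (F.map i y) x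
          exact ⟨σ • y, (mulAction_naturality F σ i y).symm⟩⟩
    exact isIso_of_reflects_iso i F

theorem isEmpty_or_pretransitive {X : C} [IsConnected X] (x y : (F.obj X).obj) :
    ∃ σ : Aut F, σ • x = y :=
  MulAction.exists_smul_eq (Aut F) x y

instance unique_terminal : Unique (F.obj (⊤_ C)).obj :=
  Types.isTerminalEquivUnique _ (terminalIsTerminal.isTerminalObj (F ⋙ FintypeCat.incl) _)

/-- A fixed point gives a section. -/
theorem exists_section_iff {X : C} (x : (F.obj X).obj) :
    (∃ s : ⊤_ C ⟶ X, ∀ t, F.map s t = x) ↔ ∀ σ : Aut F, σ • x = x := by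
  constructor
  · rintro ⟨s, hs⟩ σ
    rw [← hs default, mulAction_naturality, hs, hs]
  · intro h
    obtain ⟨s, hs⟩ := exists_map_eq F (X := ⊤_ C) (fun _ => x) fun σ _ => (h σ).symm
    exact ⟨s, hs⟩

/-- Two automorphisms agreeing on connected objects are equal. -/
theorem eq_one_of_forall_connected (σ : Aut F)
    (h : ∀ (X : C), IsConnected X → ∀ x : (F.obj X).obj, σ • x = x) : σ = 1 := by
  refine Iso.ext (NatTrans.ext (funext fun X => FintypeCat.hom_ext _ _ fun x => ?_))
  obtain ⟨Y, i, y, hy, hc, -⟩ := fiber_in_connected_component F X x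
  show σ • x = x
  rw [← hy, mulAction_naturality, h Y hc y]

/-- A closed subgroup is cut out by the open subgroups containing it. -/
theorem exists_openSubgroup_notMem (H : Subgroup (Aut F)) (hH : IsClosed (H : Set (Aut F)))
    {σ : Aut F} (hσ : σ ∉ H) : ∃ V : OpenSubgroup (Aut F), H ≤ V.toSubgroup ∧ σ ∉ V := by
  have h := ProfiniteGrp.closedSubgroup_eq_sInf_open (⟨H, hH⟩ : ClosedSubgroup (Aut F))
  have hσ' : σ ∉ sInf {N : Subgroup (Aut F) | IsOpen (N : Set (Aut F)) ∧ H ≤ N} := by
    rw [← show H = _ from h]; exact hσ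
  simp only [Subgroup.mem_sInf, not_forall] at hσ'
  obtain ⟨N, ⟨hN, hHN⟩, hσN⟩ := hσ'
  exact ⟨⟨N, hN⟩, hHN, hσN⟩

/-- A point fixed only by a proper open subgroup is not fixed by everything. -/
theorem le_of_forall_fixed (H K : Subgroup (Aut F)) (hK : IsClosed (K : Set (Aut F)))
    (h : ∀ (X : C) (x : (F.obj X).obj), IsConnected X →
      (∀ σ ∈ K, σ • x = x) → ∀ σ ∈ H, σ • x = x) : H ≤ K := by
  intro σ hσ
  by_contra hσK
  obtain ⟨V, hKV, hσV⟩ := exists_openSubgroup_notMem F K hK hσK
  obtain ⟨X, x, hc, hx⟩ := exists_stabilizer_eq F V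
  have : σ ∈ MulAction.stabilizer (Aut F) x :=
    h X x hc (fun τ hτ => by rw [← MulAction.mem_stabilizer_iff, hx]; exact hKV hτ) σ hσ
  rw [hx] at this
  exact hσV this

end Groth.Agent.GalCorr
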