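import Mathlib
import Groth.Prelude.Def_Pi1X
import Groth.Agent.GalCorr.Basic

/-!
# Exact functors of Galois categories and homomorphisms of fundamental groups
-/

set_option autoImplicit false
set_option linter.style.haveILetI false
set_option backward.isDefEq.respectTransparency false

universe u v w

open CategoryTheory CategoryTheory.Limits CategoryTheory.PreGaloisCategory

noncomputable section

namespace Groth.Agent.GalCorr

variable {C C' : Type u} [Category.{v} C] [Category.{v} C'] [GaloisCategory C] [GaloisCategory C']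
  (H : C ⥤ C') (F' : C' ⥤ FintypeCat.{w}) [FiberFunctor F'] [FiberFunctor (H ⋙ F')]

theorem whisker_smul (σ : Aut F') {X : C} (x : (F'.obj (H.obj X)).obj) :
    HSMul.hSMul (α := Aut (H ⋙ F')) (β := ((H ⋙ F').obj X).obj) (Pi1X.autWhisker H F' σ) x =
      σ • x := rfl

omit [GaloisCategory C] [GaloisCategory C'] [FiberFunctor F'] [FiberFunctor (H ⋙ F')] in
theorem continuous_autWhisker : Continuous (Pi1X.autWhisker H F') := by
  rw [(autEmbedding_isClosedEmbedding (H ⋙ F')).isInducing.continuous_iff, continuous_pi_iff]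
  intro X
  exact (continuous_apply (H.obj X)).comp (autEmbedding_isClosedEmbedding F').continuous

omit [GaloisCategory C] [GaloisCategory C'] [FiberFunctor F'] [FiberFunctor (H ⋙ F')] in
theorem isClosed_range_autWhisker :
    IsClosed ((Pi1X.autWhisker H F').range : Set (Aut (H ⋙ F'))) := by
  rw [MonoidHom.coe_range]
  exact (isCompact_range (continuous_autWhisker H F')).isClosed

omit [GaloisCategory C] [GaloisCategory C'] [FiberFunctor F'] [FiberFunctor (H ⋙ F')] in
theorem isClosed_ker_autWhisker :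
    IsClosed ((Pi1X.autWhisker H F').ker : Set (Aut F')) := by
  have : ((Pi1X.autWhisker H F').ker : Set (Aut F')) = Pi1X.autWhisker H F' ⁻¹' {1} := by
    ext; simp
  rw [this]
  exact isClosed_singleton.preimage (continuous_autWhisker H F')

theorem full_of_surjective (h : Function.Surjective (Pi1X.autWhisker H F')) : H.Full where
  map_surjective {X Y} g := by
    obtain ⟨f, hf⟩ := exists_map_eq (H ⋙ F') (X := X) (Y := Y) (fun x => F'.map g x) fun σ x => by
      obtain ⟨τ, rfl⟩ := h σ
      exact (mulAction_naturality F' τ g x).symm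
    exact ⟨f, F'.map_injective (FintypeCat.hom_ext _ _ hf)⟩

include F' in
theorem faithful : H.Faithful := Functor.Faithful.of_comp H F'

theorem map_terminal_iso [PreservesFiniteLimits H] : Nonempty (H.obj (⊤_ C) ≅ ⊤_ C') :=
  ⟨PreservesTerminal.iso H⟩

theorem surjective_of_full [PreservesFiniteLimits H] [H.Full] :
    Function.Surjective (Pi1X.autWhisker H F') := by
  intro σ
  refine (le_of_forall_fixed (H ⋙ F') ⊤ _ (isClosed_range_autWhisker H F') ?_) (Subgroup.mem_top σ)
  intro X x _ hx τ _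
  obtain ⟨s, hs⟩ := (exists_section_iff F' (X := H.obj X) x).2 fun σ' => hx _ ⟨σ', rfl⟩
  obtain ⟨s₀, hs₀⟩ := H.map_surjective ((PreservesTerminal.iso H).hom ≫ s)
  refine (exists_section_iff (H ⋙ F') x).1 ⟨s₀, fun t => ?_⟩ τ
  show F'.map (H.map s₀) t = x
  rw [hs₀, F'.map_comp]
  exact hs _

theorem surjective_iff [PreservesFiniteLimits H] :
    Function.Surjective (Pi1X.autWhisker H F') ↔ (H.Full ∧ H.Faithful) :=
  ⟨fun h => ⟨full_of_surjective H F' h, faithful H F'⟩,
    fun ⟨_, _⟩ => surjective_of_full H F'⟩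

theorem surjective_iff_preserves_connected :
    Function.Surjective (Pi1X.autWhisker H F') ↔
      ∀ X : C, PreGaloisCategory.IsConnected X → PreGaloisCategory.IsConnected (H.obj X) := by
  constructor
  · intro h X hX
    haveI : Nonempty (F'.obj (H.obj X)).obj := nonempty_fiber_of_isConnected (H ⋙ F') X
    refine isConnected_of_pretransitive F' fun x y => ?_
    obtain ⟨σ, hσ⟩ := MulAction.exists_smul_eq (Aut (H ⋙ F')) (α := ((H ⋙ F').obj X).obj) x y
    obtain ⟨τ, rfl⟩ := h σ
    exact ⟨τ, hσ⟩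
  · intro h σ
    refine (le_of_forall_fixed (H ⋙ F') ⊤ _ (isClosed_range_autWhisker H F') ?_)
      (Subgroup.mem_top σ)
    intro X x hX hx τ _
    haveI := h X hX
    obtain ⟨τ', hτ'⟩ :=
      MulAction.exists_smul_eq (Aut F') (α := (F'.obj (H.obj X)).obj) x (τ • x)
    rw [← hτ']
    exact hx _ ⟨τ', rfl⟩

theorem exists_open_normal_comap_le (U : Subgroup (Aut F'))
    (hU : IsOpen (U : Set (Aut F'))) (hk : (Pi1X.autWhisker H F').ker ≤ U) :
    ∃ V : OpenNormalSubgroup (Aut (H ⋙ F')), ∀ σ, Pi1X.autWhisker H F' σ ∈ V → σ ∈ U := by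
  have hK : IsClosed (Pi1X.autWhisker H F' '' (U : Set (Aut F'))ᶜ) :=
    (hU.isClosed_compl.isCompact.image (continuous_autWhisker H F')).isClosed
  obtain ⟨V, hV⟩ := ProfiniteGrp.exist_openNormalSubgroup_sub_open_nhds_of_one hK.isOpen_compl
    (fun ⟨σ, hσ, e⟩ => hσ (hk e))
  exact ⟨V, fun σ hσ => by_contra fun h => hV hσ ⟨σ, h, rfl⟩⟩

theorem ker_le_stabilizer_iff (X' : C') [PreGaloisCategory.IsConnected X']
    (a' : (F'.obj X').obj) :
    (Pi1X.autWhisker H F').ker ≤ MulAction.stabilizer (Aut F') a' ↔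
      ∃ (X : C) (Y' : C') (i : Y' ⟶ H.obj X) (_ : Y' ⟶ X'),
        Mono i ∧ PreGaloisCategory.IsConnected Y' := by
  constructor
  · intro h
    obtain ⟨V, hV⟩ := exists_open_normal_comap_le H F' _ (stabilizer_isOpen (Aut F') a') h
    obtain ⟨X, x, -, hx⟩ := exists_stabilizer_eq (H ⋙ F') V.toOpenSubgroup
    obtain ⟨Y', i, y, hc, hm, -, hy⟩ := exists_component F' (H.obj X) x
    obtain ⟨q, -⟩ := exists_map_of_stabilizer_le F' y a' fun σ hσ => by
      rw [hy] at hσ
      refine hV σ ?_
      show _ ∈ V.toOpenSubgroup.toSubgroup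
      rw [← hx]
      exact hσ
    exact ⟨X, Y', i, q, hm, hc⟩
  · rintro ⟨X, Y', i, q, hi, hc⟩ σ hσ
    obtain ⟨y, rfl⟩ := surjective_of_nonempty_fiber_of_isConnected F' q a'
    have hy : σ • y = y := by
      rw [smul_eq_iff_of_mono F' i]
      have := whisker_smul H F' σ (X := X) (F'.map i y)
      rw [MonoidHom.mem_ker.1 hσ, one_smul] at this
      exact this.symm
    rw [MulAction.mem_stabilizer_iff, mulAction_naturality, hy]

theorem injective_iff :
    Function.Injective (Pi1X.autWhisker H F') ↔ ∀ X' : C', PreGaloisCategory.IsConnected X' →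
      ∃ (X : C) (Y' : C') (p : Y' ⟶ X') (q : Y' ⟶ H.obj X), Epi p ∧ Mono q := by
  constructor
  · intro h X' hX'
    obtain ⟨a'⟩ := nonempty_fiber_of_isConnected F' X'
    obtain ⟨X, Y', i, q, hm, hc⟩ := (ker_le_stabilizer_iff H F' X' a').1 (by
      rw [(MonoidHom.ker_eq_bot_iff _).2 h]; exact bot_le)
    exact ⟨X, Y', q, i, epi_of_nonempty_of_isConnected F' q, hm⟩
  · intro h
    rw [injective_iff_map_eq_one]
    intro σ hσ
    refine eq_one_of_forall_connected F' σ fun X' hX' x' => ?_
    obtain ⟨X, Y', p, q, hp, hq⟩ := h X' hX'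
    obtain ⟨y, rfl⟩ := surjective_on_fiber_of_epi F' p x'
    rw [mulAction_naturality, (smul_eq_iff_of_mono F' q σ y).2]
    have := whisker_smul H F' σ (X := X) (F'.map q y)
    rw [hσ, one_smul] at this
    exact this.symm

end Groth.Agent.GalCorr
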