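import Mathlib
import Groth.Prelude.Def_Pi1X
import Groth.Agent.GalCorr.Hom
import Groth.Agent.GalUniq.Basic

/-!
# Exact sequences of fundamental groups, categorically
-/

set_option autoImplicit false
set_option linter.style.haveILetI false
set_option backward.isDefEq.respectTransparency false

universe u v w

open CategoryTheory CategoryTheory.Limits CategoryTheory.PreGaloisCategory

noncomputable section

namespace Groth.Agent.GalCorr

section Single

variable {C : Type u} [Category.{v} C] [GaloisCategory C] (F : C ⥤ FintypeCat.{w}) [FiberFunctor F]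

theorem fiberFunctor_of_iso {G : C ⥤ FintypeCat.{w}} (e : F ≅ G) : FiberFunctor G where
  preservesTerminalObjects := preservesLimitsOfShape_of_natIso e
  preservesPullbacks := preservesLimitsOfShape_of_natIso e
  preservesFiniteCoproducts := ⟨fun _ => preservesColimitsOfShape_of_natIso e⟩
  preservesEpis := Functor.preservesEpimorphisms.of_iso e
  preservesQuotientsByFiniteGroups _ _ _ := preservesColimitsOfShape_of_natIso e
  reflectsIsos := reflectsIsomorphisms_of_iso e

/-- Trivial action means a sum of copies of the final object. -/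
theorem forall_fixed_iff (X : C) :
    (∀ (σ : Aut F) (x : (F.obj X).obj), σ • x = x) ↔
      ∃ n : ℕ, Nonempty (X ≅ ∐ fun _ : Fin n => ⊤_ C) := by
  constructor
  · intro h
    let e := Finite.equivFin (F.obj X).obj
    choose s hs using fun i => (exists_section_iff F (e.symm i)).2 fun σ => h σ (e.symm i)
    let c : (∐ fun _ : Fin (Nat.card (F.obj X).obj) => ⊤_ C) ⟶ X := Sigma.desc s
    have hp : ∀ i t, F.map c (F.map (Sigma.ι (fun _ => ⊤_ C) i) t) = e.symm i := fun i t => by
      rw [← hs i t, ← FintypeCat.comp_apply, ← F.map_comp, Sigma.ι_desc]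
    have hsurj : ∀ p, ∃ i t,
        F.map (Sigma.ι (fun _ : Fin (Nat.card (F.obj X).obj) => ⊤_ C) i) t = p := fun p => by
      obtain ⟨⟨i⟩, t, ht⟩ := Types.jointly_surjective _
        (isColimitOfPreserves (F ⋙ FintypeCat.incl) (colimit.isColimit
          (Discrete.functor fun _ : Fin (Nat.card (F.obj X).obj) => ⊤_ C))) p
      exact ⟨i, t, ht⟩
    haveI : IsIso (F.map c) := by
      refine (ConcreteCategory.isIso_iff_bijective _).2 ⟨fun p q hpq => ?_, fun x => ?_⟩
      · obtain ⟨i, t, rfl⟩ := hsurj p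
        obtain ⟨j, t', rfl⟩ := hsurj q
        rw [hp, hp] at hpq
        obtain rfl := e.symm.injective hpq
        rw [Subsingleton.elim t t']
      · exact ⟨F.map (Sigma.ι (fun _ : Fin (Nat.card (F.obj X).obj) => ⊤_ C) (e x)) default,
          by rw [hp, Equiv.symm_apply_apply]⟩
    haveI : IsIso c := isIso_of_reflects_iso c F
    exact ⟨_, ⟨(asIso c).symm⟩⟩
  · rintro ⟨n, ⟨e⟩⟩ σ x
    obtain ⟨⟨i⟩, t, ht⟩ := Types.jointly_surjective _
      (isColimitOfPreserves (F ⋙ FintypeCat.incl) (colimit.isColimit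
        (Discrete.functor fun _ : Fin n => ⊤_ C))) (F.map e.hom x)
    have hx : x = F.map (Sigma.ι (fun _ : Fin n => ⊤_ C) i ≫ e.inv) t := by
      rw [F.map_comp, FintypeCat.comp_apply]
      refine (?_ : x = F.map e.inv (F.map e.hom x)).trans (congrArg (F.map e.inv) ht.symm)
      rw [← FintypeCat.comp_apply, ← F.map_comp, e.hom_inv_id, F.map_id, FintypeCat.id_apply]
    rw [hx, mulAction_naturality]
    exact congrArg _ (Subsingleton.elim (α := (F.obj (⊤_ C)).obj) _ _)

theorem smul_eq_of_iso {X Y : C} (e : X ≅ Y) (σ : Aut F) (h : ∀ y : (F.obj Y).obj, σ • y = y)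
    (x : (F.obj X).obj) : σ • x = x :=
  (smul_eq_iff_of_mono F e.hom σ x).2 (h _)

/-- The normal subgroup of elements acting trivially on a fibre. -/
def fixer (X : C) : Subgroup (Aut F) := (MulAction.toPermHom (Aut F) (F.obj X).obj).ker

theorem mem_fixer {X : C} {σ : Aut F} : σ ∈ fixer F X ↔ ∀ x : (F.obj X).obj, σ • x = x := by
  simp [fixer, MonoidHom.mem_ker, Equiv.ext_iff]

instance (X : C) : (fixer F X).Normal := MonoidHom.normal_ker _

theorem isClosed_fixer (X : C) : IsClosed (fixer F X : Set (Aut F)) := by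
  have : (fixer F X : Set (Aut F)) =
      ⋂ x : (F.obj X).obj, (MulAction.stabilizer (Aut F) x : Set (Aut F)) := by
    ext σ; simp [mem_fixer]
  rw [this]
  exact isClosed_iInter fun x => Subgroup.isClosed_of_isOpen _ (stabilizer_isOpen (Aut F) x)

theorem le_fixer_of_normalClosure {S : Set (Aut F)} {X : C} (h : S ⊆ fixer F X) :
    (Subgroup.normalClosure S).topologicalClosure ≤ fixer F X :=
  Subgroup.topologicalClosure_minimal _ (Subgroup.normalClosure_le_normal h) (isClosed_fixer F X)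

end Single

section Pair

variable {C C' C'' : Type u} [Category.{v} C] [Category.{v} C'] [Category.{v} C'']
  [GaloisCategory C] [GaloisCategory C'] [GaloisCategory C'']
  (H : C ⥤ C') (H' : C' ⥤ C'') (F'' : C'' ⥤ FintypeCat.{w}) [FiberFunctor F'']
  [FiberFunctor (H' ⋙ F'')] [FiberFunctor (H ⋙ (H' ⋙ F''))]

omit [FiberFunctor F''] [FiberFunctor (H' ⋙ F'')] in
theorem whisker_whisker_eq_one_iff (σ : Aut F'') :
    Pi1X.autWhisker H (H' ⋙ F'') (Pi1X.autWhisker H' F'' σ) = 1 ↔
      ∀ (X : C) (x : (F''.obj (H'.obj (H.obj X))).obj), σ • x = x := by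
  constructor
  · intro h X x
    exact congrArg (fun τ : Aut (H ⋙ (H' ⋙ F'')) => τ.hom.app X x) h
  · intro h
    exact Iso.ext (NatTrans.ext (funext fun X => FintypeCat.hom_ext _ _ (h X)))

omit [FiberFunctor (H' ⋙ F'')] in
theorem comp_trivial_iff :
    (∀ σ : Aut F'', Pi1X.autWhisker H (H' ⋙ F'') (Pi1X.autWhisker H' F'' σ) = 1) ↔
      ∀ X : C, ∃ n : ℕ, Nonempty (H'.obj (H.obj X) ≅ ∐ fun _ : Fin n => ⊤_ C'') := by
  simp only [whisker_whisker_eq_one_iff, ← forall_fixed_iff F'']
  exact ⟨fun h X σ => h σ X, fun h σ X => h X σ⟩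

theorem trivial_iff_subset_fixer (X' : C') :
    (∃ n : ℕ, Nonempty (H'.obj X' ≅ ∐ fun _ : Fin n => ⊤_ C'')) ↔
      Set.range (Pi1X.autWhisker H' F'') ⊆ fixer (H' ⋙ F'') X' := by
  rw [← forall_fixed_iff F'']
  constructor
  · rintro h _ ⟨σ, rfl⟩
    exact (mem_fixer (H' ⋙ F'')).2 fun x => h σ x
  · intro h σ x
    exact (mem_fixer (H' ⋙ F'')).1 (h ⟨σ, rfl⟩) x

theorem ker_le_range_iff :
    (Pi1X.autWhisker H (H' ⋙ F'')).ker ≤ (Pi1X.autWhisker H' F'').range ↔
      ∀ (X' : C') (a' : ((H' ⋙ F'').obj X').obj), PreGaloisCategory.IsConnected X' →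
        (∃ s : ⊤_ C'' ⟶ H'.obj X', ∀ t : (F''.obj (⊤_ C'')).obj, F''.map s t = a') →
          ∃ (X : C) (Y' : C') (i : Y' ⟶ H.obj X) (_ : Y' ⟶ X'),
            Mono i ∧ PreGaloisCategory.IsConnected Y' := by
  constructor
  · intro h X' a' hX' hs
    refine (ker_le_stabilizer_iff H (H' ⋙ F'') X' a').1 (h.trans ?_)
    rintro _ ⟨σ, rfl⟩
    exact (exists_section_iff F'' (X := H'.obj X') a').1 hs σ
  · intro h
    refine le_of_forall_fixed (H' ⋙ F'') _ _ (isClosed_range_autWhisker H' F'') ?_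
    intro X' a' hX' ha σ hσ
    exact (ker_le_stabilizer_iff H (H' ⋙ F'') X' a').2
      (h X' a' hX' ((exists_section_iff F'' (X := H'.obj X') a').2 fun τ => ha _ ⟨τ, rfl⟩)) hσ

theorem exists_preimage {X' : C'} [H.Full] [H.Faithful]
    (hsurj : Function.Surjective (Pi1X.autWhisker H (H' ⋙ F'')))
    (hker : (Pi1X.autWhisker H (H' ⋙ F'')).ker ≤ fixer (H' ⋙ F'') X') :
    ∃ X : C, Nonempty (H.obj X ≅ X') := by
  let u := Pi1X.autWhisker H (H' ⋙ F'')
  let e := Finite.equivFin ((H' ⋙ F'').obj X').obj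
  let a : Aut (H ⋙ (H' ⋙ F'')) →* Equiv.Perm ((H' ⋙ F'').obj X').obj :=
    MonoidHom.liftOfSurjective u hsurj ⟨MulAction.toPermHom _ _, hker⟩
  have ha : ∀ τ x, a (u τ) x = τ • x := fun τ x => by
    show (MonoidHom.liftOfSurjective u hsurj ⟨MulAction.toPermHom _ _, hker⟩) (u τ) x = _
    rw [MonoidHom.liftOfRightInverse_comp_apply]
    rfl
  letI : MulAction (Aut (H ⋙ (H' ⋙ F''))) (Fin (Nat.card ((H' ⋙ F'').obj X').obj)) :=
    MulAction.compHom _ (e.permCongrHom.toMonoidHom.comp a)
  have hsm : ∀ τ x, (u τ) • e x = e (τ • x) := fun τ x => by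
    show e (a (u τ) (e.symm (e x))) = _
    rw [Equiv.symm_apply_apply, ha]
  have hopen : ∀ i : Fin (Nat.card ((H' ⋙ F'').obj X').obj),
      IsOpen (MulAction.stabilizer (Aut (H ⋙ (H' ⋙ F''))) i : Set (Aut (H ⋙ (H' ⋙ F'')))) := by
    intro i
    obtain ⟨x, rfl⟩ := e.surjective i
    have hmem : ∀ τ, u τ • e x = e x ↔ τ • x = x := fun τ => by rw [hsm, e.apply_eq_iff_eq]
    have hq : Topology.IsQuotientMap u :=
      IsClosedMap.isQuotientMap (continuous_autWhisker H (H' ⋙ F'')).isClosedMap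
        (continuous_autWhisker H (H' ⋙ F'')) hsurj
    rw [← hq.isOpen_preimage]
    convert stabilizer_isOpen (Aut (H' ⋙ F'')) x using 1
    ext τ
    exact hmem τ
  obtain ⟨X, j, hj⟩ := exists_of_mulAction (H ⋙ (H' ⋙ F'')) _ hopen
  obtain ⟨f, hf⟩ := exists_map_eq (H' ⋙ F'') (X := H.obj X) (Y := X') (fun y => e.symm (j y))
    fun τ y => by
      rw [Equiv.symm_apply_eq, ← hsm, Equiv.apply_symm_apply, ← hj]
      rfl
  haveI : IsIso ((H' ⋙ F'').map f) := by
    refine (ConcreteCategory.isIso_iff_bijective _).2 ?_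
    have hfe : ⇑(ConcreteCategory.hom ((H' ⋙ F'').map f)) = fun y => e.symm (j y) := funext hf
    rw [hfe]
    exact (j.trans e.symm).bijective
  haveI : IsIso f := isIso_of_reflects_iso f (H' ⋙ F'')
  exact ⟨X, ⟨asIso f⟩⟩

theorem exact_iff [PreservesFiniteLimits H] :
    (Function.Surjective (Pi1X.autWhisker H (H' ⋙ F'')) ∧
      (∀ σ : Aut F'', Pi1X.autWhisker H (H' ⋙ F'') (Pi1X.autWhisker H' F'' σ) = 1) ∧
      (Pi1X.autWhisker H (H' ⋙ F'')).ker =
        (Subgroup.normalClosure (Set.range (Pi1X.autWhisker H' F''))).topologicalClosure) ↔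
    ((H.Full ∧ H.Faithful) ∧
      ∀ X' : C', (∃ X : C, Nonempty (H.obj X ≅ X')) ↔
        ∃ n : ℕ, Nonempty (H'.obj X' ≅ ∐ fun _ : Fin n => ⊤_ C'')) := by
  rw [surjective_iff]
  refine and_congr_right fun ⟨_, _⟩ => ?_
  have hsurj := surjective_of_full H (H' ⋙ F'')
  constructor
  · rintro ⟨ht, hk⟩ X'
    constructor
    · rintro ⟨X, ⟨e⟩⟩
      refine (forall_fixed_iff F'' _).1 fun σ x => ?_
      exact smul_eq_of_iso F'' (H'.mapIso e.symm) σ
        ((whisker_whisker_eq_one_iff H H' F'' σ).1 (ht σ) X) x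
    · intro hn
      refine exists_preimage H H' F'' hsurj (hk ▸ ?_)
      exact le_fixer_of_normalClosure (H' ⋙ F'') ((trivial_iff_subset_fixer H' F'' X').1 hn)
  · intro h
    have ht := (comp_trivial_iff H H' F'').2 fun X => (h _).1 ⟨X, ⟨Iso.refl _⟩⟩
    refine ⟨ht, le_antisymm ?_ ?_⟩
    · intro σ hσ
      by_contra hσN
      obtain ⟨V, hNV, hσV⟩ := exists_openSubgroup_notMem (H' ⋙ F'') _
        (Subgroup.isClosed_topologicalClosure _) hσN
      haveI : Subgroup.FiniteIndex V.toSubgroup := V.finiteIndex_of_finite_quotient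
      let W : OpenSubgroup (Aut (H' ⋙ F'')) :=
        ⟨V.toSubgroup.normalCore, Subgroup.isOpen_of_isClosed_of_finiteIndex _
          (V.toSubgroup.normalCore_isClosed V.isClosed)⟩
      have hNW : Set.range (Pi1X.autWhisker H' F'') ⊆ W.toSubgroup := fun τ hτ =>
        (Subgroup.normal_le_normalCore (H := V.toSubgroup)).2
          ((Subgroup.le_topologicalClosure _).trans hNV) (Subgroup.subset_normalClosure hτ)
      obtain ⟨X', x, hc, hx⟩ := exists_stabilizer_eq (H' ⋙ F'') W
      have hfix : W.toSubgroup = fixer (H' ⋙ F'') X' := by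
        ext τ
        rw [mem_fixer]
        constructor
        · intro hτ x'
          obtain ⟨g, rfl⟩ := MulAction.exists_smul_eq (Aut (H' ⋙ F'')) x x'
          rw [← MulAction.mem_stabilizer_iff, MulAction.stabilizer_smul_eq_stabilizer_map_conj, hx]
          exact ⟨g⁻¹ * τ * g, by
            have := (Subgroup.normalCore_normal V.toSubgroup).conj_mem τ hτ g⁻¹
            simpa [W] using this, by simp [mul_assoc]⟩
        · intro hτ
          rw [← hx]
          exact hτ x
      obtain ⟨X, ⟨e⟩⟩ := (h X').2 ((trivial_iff_subset_fixer H' F'' X').2 (hfix ▸ hNW))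
      refine hσV (Subgroup.normalCore_le V.toSubgroup (?_ : σ ∈ W.toSubgroup))
      rw [← hx, MulAction.mem_stabilizer_iff]
      refine smul_eq_of_iso (H' ⋙ F'') e.symm σ (fun y => ?_) x
      rw [← whisker_smul H (H' ⋙ F'') σ (X := X) y, MonoidHom.mem_ker.1 hσ, one_smul]
    · refine Subgroup.topologicalClosure_minimal _ (Subgroup.normalClosure_le_normal ?_)
        (isClosed_ker_autWhisker H (H' ⋙ F''))
      rintro _ ⟨σ, rfl⟩
      exact ht σ

end Pair

section Connected

variable {C D : Type u} [Category.{v} C] [GaloisCategory C] [Category.{v} D] [GaloisCategory D]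

theorem fullyFaithful_iff_preserves_connected (H : C ⥤ D) [PreservesFiniteLimits H]
    [PreservesFiniteColimits H] :
    (H.Full ∧ H.Faithful) ↔
      ∀ X : C, PreGaloisCategory.IsConnected X → PreGaloisCategory.IsConnected (H.obj X) := by
  let F := GaloisCategory.getFiberFunctor C
  let F' := GaloisCategory.getFiberFunctor D
  haveI : PreservesFiniteLimits (H ⋙ F') := comp_preservesFiniteLimits _ _
  haveI : PreservesFiniteCoproducts (H ⋙ F') := inferInstance
  obtain ⟨e⟩ := GalUniq.nonempty_iso F (H ⋙ F') fun A => by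
    haveI : (H ⋙ F').PreservesEpimorphisms := inferInstance
    exact GalUniq.nonempty_of_preservesEpi (H ⋙ F') A.obj
  haveI := fiberFunctor_of_iso F e.symm
  rw [← surjective_iff H F', surjective_iff_preserves_connected]

end Connected

end Groth.Agent.GalCorr
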